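import Groth.Agent.SmoothEmbLib.Units
import Groth.Agent.FrobQuotLib.Main
import Groth.Agent.ExtGmLib.Props
import Groth.Agent.MaxTorFieldLib.Mu
import Groth.Agent.GrpHomLib.Artin
import Groth.Agent.MultExtLib.Quot
import Groth.Agent.GrpFieldLib.KerShear
import Groth.Agent.AntiAffLib.Descend
import Groth.Agent.AntiAffLib.CommCat
import Groth.Agent.AntiAffLib.Image
import Groth.Agent.TorsExtLib.Props
import Groth.Agent.TorsQuotLib.Main
import Groth.Agent.S3030
import Groth.Agent.S4596
import Groth.Agent.S5938

/-!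
A commutative group locally of finite type is a closed subgroup of a smooth commutative group.
-/

set_option autoImplicit false
set_option linter.style.haveILetI false
set_option backward.isDefEq.respectTransparency false
set_option backward.isDefEq.respectTransparency.types false
set_option maxHeartbeats 1000000

noncomputable section

universe u

open CategoryTheory CategoryTheory.Limits MonoidalCategory CartesianMonoidalCategory AlgebraicGeometry
open scoped MonObj
open Groth.Agent

attribute [-instance] CategoryTheory.Hom.commGroup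

namespace SmoothEmb

variable {k : Type u} [Field k]

theorem exists_smooth_emb (G : Over (Spec (CommRingCat.of k))) [GrpObj G] [IsCommMonObj G]
    [LocallyOfFiniteType G.hom] :
    ∃ (E : Over (Spec (CommRingCat.of k))) (_ : GrpObj E) (_ : IsCommMonObj E) (j : G ⟶ E),
      Smooth E.hom ∧ IsMonHom j ∧ IsClosedImmersion j.left ∧ (QuasiCompact G.hom → QuasiCompact E.hom) := by
  obtain ⟨H, Q, _, _, i, v, hH, -, hQ, hic, hex⟩ := FrobQuotLib.exists_smooth_quotient G
  haveI := hH; haveI := hQ; haveI := hic
  have h := ExtGm.isExt_of_isExactSeq hex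
  haveI := h.mon_u; haveI := h.mon_v
  haveI : LocallyOfFinitePresentation H.hom := UOpenLib.locallyOfFinitePresentation_of_isLocallyNoetherian H.hom
  haveI : Flat H.hom := GrpField.flat_field _
  obtain ⟨-, hvf, hvl, hvs⟩ := ExtGm.props_of_isExt h
  haveI := hvf; haveI := hvl; haveI := hvs
  haveI : Mono i := Over.mono_of_mono_left i
  haveI : IsCommMonObj H := AntiAffLib.CommCat.isComm_of_mono i
  obtain ⟨U, _, _, c, hc, hcc, hUs, hUq⟩ := exists_embedding H
  haveI := hc; haveI := hcc; haveI := hUs; haveI := hUq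
  -- the antidiagonal
  haveI : IsMonHom c⁻¹ := Groth.Agent.MaxTorField.isMonHom_inv_of_comm c
  let δ : H ⟶ G ⊗ U := lift i c⁻¹
  have hδfst : δ ≫ fst G U = i := lift_fst _ _
  haveI : IsMonHom δ := by
    show IsMonHom (lift i c⁻¹)
    infer_instance
  haveI : IsSeparated (fst G U).left := by
    haveI : IsSeparated U.hom := GrpField.isSeparated_grp (G := U)
    exact TorsExtLib.property_fst (Q := @IsSeparated) G U ‹_›
  haveI : IsClosedImmersion δ.left := by
    haveI : IsClosedImmersion (δ.left ≫ (fst G U).left) := by rw [← Over.comp_left, hδfst]; infer_instance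
    exact IsClosedImmersion.of_comp δ.left (fst G U).left
  haveI : Mono δ := Over.mono_of_mono_left δ
  haveI : LocallyOfFiniteType (G ⊗ U).hom := by
    haveI : LocallyOfFiniteType U.hom := inferInstance
    haveI : LocallyOfFiniteType (fst G U).left := TorsExtLib.property_fst (Q := @LocallyOfFiniteType) G U ‹_›
    rw [← Over.w (fst G U)]; infer_instance
  haveI : Flat (G ⊗ U).hom := GrpField.flat_field _
  obtain ⟨E, _, p, hpm, hpf, hps, hpl, hpk, -, -, -⟩ := Groth.Agent.S3030.result k H (G ⊗ U) δ
    (fun T g m => ⟨m, by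
      letI : CommGroup (T ⟶ G ⊗ U) := Hom.commGroup
      rw [_root_.mul_comm g, mul_inv_cancel_right]⟩)
  haveI := hpm; haveI := hpf; haveI := hps; haveI := hpl
  haveI : IsCommMonObj E := AntiAffLib.CommCat.isComm_of_epi p
  haveI : LocallyOfFiniteType E.hom := by
    haveI : LocallyOfFiniteType (p.left ≫ E.hom) := by rw [Over.w p]; infer_instance
    exact Groth.Agent.S5938.result p.left E.hom
  haveI := Groth.Agent.MonoQuot.epi_over p
  -- points of the kernel
  have hker : ∀ {T : Over (Spec (CommRingCat.of k))} (a : T ⟶ G ⊗ U), a ≫ p = 1 → ∃ b : T ⟶ H, b ≫ δ = a :=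
    fun a ha => ⟨hpk.lift a (toUnit _) (by rw [ha, Hom.one_def]), hpk.lift_fst _ _ _⟩
  have hker' : δ ≫ p = 1 := hpk.w.trans Hom.one_def.symm
  -- the embedding
  let j : G ⟶ E := lift (𝟙 G) 1 ≫ p
  haveI : IsMonHom j := by
    haveI : IsMonHom (1 : G ⟶ U) := by rw [Hom.one_def]; infer_instance
    show IsMonHom (lift (𝟙 G) 1 ≫ p)
    infer_instance
  have hjker : ∀ {T : Over (Spec (CommRingCat.of k))} (g : T ⟶ G), g ≫ j = 1 → g = 1 := fun {T} g hg => by
    obtain ⟨b, hb⟩ := hker (g ≫ lift (𝟙 G) 1) (by rw [Category.assoc]; exact hg)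
    have h1 := congr($hb ≫ snd G U)
    simp only [Category.assoc, δ, lift_snd, MonObj.comp_one] at h1
    have h2 : b ≫ c = 1 := by rw [← inv_inj, inv_one, ← GrpObj.comp_inv]; exact h1
    have hb1 : b = 1 := by
      haveI : Mono c := Over.mono_of_mono_left c
      rw [← cancel_mono c, h2, MonObj.one_comp]
    have h3 := congr($hb ≫ fst G U)
    simp only [Category.assoc, δ, lift_fst, Category.comp_id] at h3
    rw [← h3, hb1, MonObj.one_comp]
  haveI : Mono j := ⟨fun {T} a b hab => by
    have h0 := hjker (a * b⁻¹) (by rw [MonObj.mul_comp, GrpObj.inv_comp, hab, mul_inv_cancel])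
    exact mul_inv_eq_one.1 h0⟩
  haveI : Mono j.left := (Over.forget _).map_mono j
  -- the quotient map to `Q`
  have hiv : i ≫ v = 1 := h.comp
  obtain ⟨w, hw⟩ := Groth.Agent.MonoQuot.exists_desc_over p (fst G U ≫ v) fun T a b hab => by
    obtain ⟨l, hl⟩ := hker (a * b⁻¹) (by rw [MonObj.mul_comp, GrpObj.inv_comp, hab, mul_inv_cancel])
    have h1 := congr($hl ≫ (fst G U ≫ v))
    rw [Category.assoc, ← Category.assoc δ, hδfst, hiv, MonObj.comp_one, MonObj.mul_comp, GrpObj.inv_comp] at h1
    exact mul_inv_eq_one.1 h1.symm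
  haveI : IsMonHom w := by
    haveI : IsMonHom (p ≫ w) := by rw [hw]; infer_instance
    refine ⟨?_, ?_⟩
    · rw [← IsMonHom.one_hom p, Category.assoc, IsMonHom.one_hom (p ≫ w)]
    · obtain ⟨f1, f2, f3⟩ := Groth.Agent.MonoQuot.fppf_tensor p p
      haveI := f1; haveI := f2; haveI := f3
      haveI := Groth.Agent.MonoQuot.epi_over (p ⊗ₘ p)
      rw [← cancel_epi (p ⊗ₘ p), ← Category.assoc, ← IsMonHom.mul_hom p, Category.assoc,
        IsMonHom.mul_hom (p ≫ w), MonoidalCategory.tensorHom_comp_tensorHom_assoc]
  let κ : U ⟶ E := lift 1 (𝟙 U) ≫ p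
  haveI : IsMonHom κ := by
    haveI : IsMonHom (1 : U ⟶ G) := by rw [Hom.one_def]; infer_instance
    show IsMonHom (lift 1 (𝟙 U) ≫ p)
    infer_instance
  haveI : Mono κ := ⟨fun {T} a b hab => by
    obtain ⟨l, hl⟩ := hker ((a * b⁻¹) ≫ lift 1 (𝟙 U)) (by
      rw [Category.assoc, MonObj.mul_comp, GrpObj.inv_comp]
      show (a ≫ κ) * (b ≫ κ)⁻¹ = 1
      rw [hab, mul_inv_cancel])
    have h1 := congr($hl ≫ fst G U)
    simp only [Category.assoc, δ, lift_fst, MonObj.comp_one] at h1
    have hl1 : l = 1 := by rw [← cancel_mono i, h1, MonObj.one_comp]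
    have h3 := congr($hl ≫ snd G U)
    simp only [Category.assoc, δ, lift_snd, Category.comp_id, hl1, MonObj.one_comp] at h3
    exact mul_inv_eq_one.1 h3.symm⟩
  have hκ : AlgGrp.IsKernel κ w := by
    refine AntiAffLib.isKernel_of_forall κ w ?_ fun T e he => ?_
    · show (lift 1 (𝟙 U) ≫ p) ≫ w = 1
      rw [Category.assoc, hw, lift_fst_assoc, MonObj.one_comp]
    · haveI : Flat (pullback.fst e p).left :=
        MorphismProperty.of_isPullback (P := @Flat) (((IsPullback.of_hasPullback e p).map (Over.forget _)).flip) hpf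
      haveI : Surjective (pullback.fst e p).left :=
        MorphismProperty.of_isPullback (P := @Surjective) (((IsPullback.of_hasPullback e p).map (Over.forget _)).flip) hps
      haveI : LocallyOfFinitePresentation (pullback.fst e p).left :=
        MorphismProperty.of_isPullback (P := @LocallyOfFinitePresentation)
          (((IsPullback.of_hasPullback e p).map (Over.forget _)).flip) hpl
      let a := pullback.snd e p
      have ha : a ≫ fst G U ≫ v = 1 := by
        rw [← hw, ← pullback.condition_assoc, he, MonObj.comp_one]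
      obtain ⟨b, hb, -⟩ := h.ker _ 1 (a ≫ fst G U) (by rw [MonObj.one_comp, Category.assoc]; exact ha.symm)
      obtain ⟨b, hb⟩ : ∃ b : pullback e p ⟶ H, b ≫ i = a ≫ fst G U := ⟨b, by simpa using hb⟩
      let x := (a ≫ snd G U) * (b ≫ c)
      refine AntiAffLib.exists_factor_of_cover (pullback.fst e p) κ e x ?_
      have hd : a = (b ≫ δ) * (x ≫ lift 1 (𝟙 U)) := by
        letI : CommGroup (pullback e p ⟶ U) := Hom.commGroup
        refine CartesianMonoidalCategory.hom_ext _ _ ?_ ?_
        · rw [MonObj.mul_comp, Category.assoc, Category.assoc, hδfst, lift_fst, MonObj.comp_one, mul_one, hb]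
        · rw [MonObj.mul_comp, Category.assoc, Category.assoc, lift_snd, lift_snd, Category.comp_id,
            GrpObj.comp_inv]
          show a ≫ snd G U = (b ≫ c)⁻¹ * ((a ≫ snd G U) * (b ≫ c))
          rw [_root_.mul_comm, mul_inv_cancel_right]
      rw [pullback.condition]
      show x ≫ lift 1 (𝟙 U) ≫ p = a ≫ p
      clear_value x
      rw [hd, MonObj.mul_comp, Category.assoc, hker', MonObj.comp_one, one_mul, Category.assoc]
  -- `w` is faithfully flat and smooth
  have hwl : p.left ≫ w.left = (fst G U).left ≫ v.left := by rw [← Over.comp_left, hw, Over.comp_left]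
  haveI : Surjective (fst G U).left := by
    haveI : Surjective U.hom := ⟨fun x => ⟨(η[U] : 𝟙_ _ ⟶ U).left x, by
      have e := Over.w (η[U] : 𝟙_ _ ⟶ U)
      exact (Scheme.Hom.comp_apply _ _ x).symm.trans (congr($(e) x))⟩⟩
    exact TorsExtLib.property_fst (Q := @Surjective) G U ‹_›
  haveI : Flat (fst G U).left := TorsExtLib.property_fst (Q := @Flat) G U (GrpField.flat_field _)
  haveI : Flat w.left := by
    haveI : Flat (p.left ≫ w.left) := by rw [hwl]; infer_instance
    exact TorsQuot.flat_cancel p.left w.left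
  haveI : Surjective w.left := by
    haveI : Surjective (p.left ≫ w.left) := by rw [hwl]; infer_instance
    exact Surjective.of_comp p.left w.left
  haveI hvqc : QuasiCompact v.left :=
    MultExt.quasiCompact_of_kernel i v (AntiAffLib.isKernel_of_forall i v hiv fun T g hg => by
      obtain ⟨l, hl, -⟩ := h.ker _ 1 g (by rw [MonObj.one_comp]; exact hg.symm)
      exact ⟨l, by simpa using hl⟩)
  haveI : QuasiCompact w.left := by
    haveI : QuasiCompact (fst G U).left := TorsExtLib.property_fst (Q := @QuasiCompact) G U ‹_›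
    haveI : QuasiCompact (p.left ≫ w.left) := by rw [hwl]; infer_instance
    exact Groth.Agent.S4596.result p.left w.left
  have hwsm : Smooth w.left := by
    have sq := (Groth.Agent.GrpKerShear.isPullback_shear w κ hκ).map (Over.forget _)
    exact MorphismProperty.of_isPullback_of_descendsAlong (P := @Smooth)
      (Q := @Surjective ⊓ @Flat ⊓ @QuasiCompact) sq.flip.flip
      ⟨⟨‹Surjective w.left›, ‹Flat w.left›⟩, ‹QuasiCompact w.left›⟩
      (TorsExtLib.property_fst (Q := @Smooth) E U ‹_›)
  have hEs : Smooth E.hom := by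
    haveI := hwsm
    rw [← Over.w w]; infer_instance
  haveI : QuasiCompact j.left := by
    haveI : QuasiCompact p.left := MultExt.quasiCompact_of_kernel δ p hpk
    haveI : IsClosedImmersion ((lift (𝟙 G) (1 : G ⟶ U)).left ≫ (fst G U).left) := by
      rw [← Over.comp_left, lift_fst]; exact inferInstanceAs (IsClosedImmersion (𝟙 G.left))
    haveI := IsClosedImmersion.of_comp (lift (𝟙 G) (1 : G ⟶ U)).left (fst G U).left
    show QuasiCompact ((lift (𝟙 G) (1 : G ⟶ U)).left ≫ p.left)
    infer_instance
  have hjc : IsClosedImmersion j.left := GrpHom.isClosedImmersion_of_mono_artinian (u := j)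
  refine ⟨E, inferInstance, inferInstance, j, hEs, inferInstance, hjc, fun hG => ?_⟩
  haveI : QuasiCompact (G ⊗ U).hom := by
    haveI : QuasiCompact (fst G U).left := TorsExtLib.property_fst (Q := @QuasiCompact) G U ‹_›
    rw [← Over.w (fst G U)]; infer_instance
  haveI : QuasiCompact (p.left ≫ E.hom) := by rw [Over.w p]; infer_instance
  exact Groth.Agent.S4596.result p.left E.hom

end SmoothEmb

end
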