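import Groth.Agent.MultExtLib.HopfComm
import Groth.Agent.DiagRepLib.Scheme
import Groth.Agent.AntiAffLib.FixActs
import Groth.Agent.S18821
import Groth.Agent.S18817
import Mathlib.LinearAlgebra.SymmetricAlgebra.Basis
import Mathlib.Algebra.Category.Grp.Adjunctions

/-!
A finite commutative group embeds into the unit group of its dual algebra.
-/

set_option autoImplicit false
set_option linter.style.haveILetI false
set_option backward.isDefEq.respectTransparency false
set_option backward.isDefEq.respectTransparency.types false
set_option maxHeartbeats 1000000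

noncomputable section

universe u

open CategoryTheory CategoryTheory.Limits MonoidalCategory CartesianMonoidalCategory AlgebraicGeometry
open CoactBr
open scoped MonObj TensorProduct
open Groth.Agent

attribute [-instance] CategoryTheory.Hom.commGroup

namespace SmoothEmb

variable {k : Type u} [Field k]

section

variable (A : Type u) [CommRing A] [Algebra k A] [Coalgebra k A]

local notation "S" => SymmetricAlgebra k A


/-- Comultiplication on the symmetric algebra of a coalgebra. -/
def comulS : S →ₐ[k] S ⊗[k] S :=
  SymmetricAlgebra.lift (TensorProduct.map (SymmetricAlgebra.ι k A) (SymmetricAlgebra.ι k A) ∘ₗ Coalgebra.comul)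

/-- Counit on the symmetric algebra of a coalgebra. -/
def counitS : S →ₐ[k] k := SymmetricAlgebra.lift (R := k) (M := A) Coalgebra.counit

theorem comulS_ι (a : A) : comulS A (SymmetricAlgebra.ι k A a) =
    TensorProduct.map (SymmetricAlgebra.ι k A) (SymmetricAlgebra.ι k A) (Coalgebra.comul a) :=
  SymmetricAlgebra.lift_ι_apply _ a

theorem counitS_ι (a : A) : counitS A (SymmetricAlgebra.ι k A a) = Coalgebra.counit a :=
  SymmetricAlgebra.lift_ι_apply _ a

theorem ext_S {B : Type u} [CommRing B] [Algebra k B] (F G : SymmetricAlgebra k A →ₐ[k] B)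
    (h : ∀ a, F (SymmetricAlgebra.ι k A a) = G (SymmetricAlgebra.ι k A a)) : F = G :=
  SymmetricAlgebra.algHom_ext (LinearMap.ext h)

/-- The bialgebra structure on the symmetric algebra of a coalgebra. -/
@[instance_reducible] def bialgS : Bialgebra k (SymmetricAlgebra k A) := by
  refine Bialgebra.ofAlgHom (comulS A) (counitS A) ?_ ?_ ?_
  · refine ext_S (k := k) A (B := S ⊗[k] (S ⊗[k] S)) _ _ fun a => ?_
    show (Algebra.TensorProduct.assoc k k k S S S) (Algebra.TensorProduct.map (comulS A) (AlgHom.id k S)
        (comulS A (SymmetricAlgebra.ι k A a))) =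
      Algebra.TensorProduct.map (AlgHom.id k S) (comulS A) (comulS A (SymmetricAlgebra.ι k A a))
    rw [comulS_ι]
    have h1 : ∀ z : A ⊗[k] A, (Algebra.TensorProduct.assoc k k k S S S)
        (Algebra.TensorProduct.map (comulS A) (AlgHom.id k S)
          (TensorProduct.map (SymmetricAlgebra.ι k A) (SymmetricAlgebra.ι k A) z)) =
        TensorProduct.map (SymmetricAlgebra.ι k A) (TensorProduct.map (SymmetricAlgebra.ι k A) (SymmetricAlgebra.ι k A))
          (TensorProduct.assoc k A A A (TensorProduct.map Coalgebra.comul LinearMap.id z)) := fun z => by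
      induction z using TensorProduct.induction_on with
      | zero => simp
      | add x y hx hy => simp only [map_add, hx, hy]
      | tmul x y =>
        simp only [TensorProduct.map_tmul, Algebra.TensorProduct.map_tmul, comulS_ι, AlgHom.coe_id, id_eq, LinearMap.id_coe]
        generalize Coalgebra.comul (R := k) x = w
        induction w using TensorProduct.induction_on with
        | zero => simp
        | add p q hp hq => simp only [map_add, TensorProduct.add_tmul, hp, hq]
        | tmul p q => simp
    have h2 : ∀ z : A ⊗[k] A, Algebra.TensorProduct.map (AlgHom.id k S) (comulS A)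
          (TensorProduct.map (SymmetricAlgebra.ι k A) (SymmetricAlgebra.ι k A) z) =
        TensorProduct.map (SymmetricAlgebra.ι k A) (TensorProduct.map (SymmetricAlgebra.ι k A) (SymmetricAlgebra.ι k A))
          (TensorProduct.map LinearMap.id Coalgebra.comul z) := fun z => by
      induction z using TensorProduct.induction_on with
      | zero => simp
      | add x y hx hy => simp only [map_add, hx, hy]
      | tmul x y => simp [comulS_ι]
    rw [h1, h2]
    congr 1
    exact Coalgebra.coassoc_apply a
  · refine ext_S (k := k) A (B := k ⊗[k] S) _ _ fun a => ?_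
    show Algebra.TensorProduct.map (counitS A) (AlgHom.id k S) (comulS A (SymmetricAlgebra.ι k A a)) =
      (Algebra.TensorProduct.lid k S).symm (SymmetricAlgebra.ι k A a)
    rw [comulS_ι, Algebra.TensorProduct.lid_symm_apply]
    have h1 : ∀ z : A ⊗[k] A, Algebra.TensorProduct.map (counitS A) (AlgHom.id k S)
        (TensorProduct.map (SymmetricAlgebra.ι k A) (SymmetricAlgebra.ι k A) z) =
        TensorProduct.map LinearMap.id (SymmetricAlgebra.ι k A) (TensorProduct.map Coalgebra.counit LinearMap.id z) :=
      fun z => by
      induction z using TensorProduct.induction_on with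
      | zero => simp
      | add x y hx hy => simp only [map_add, hx, hy]
      | tmul x y => simp [counitS_ι]
    rw [h1]
    rw [show TensorProduct.map Coalgebra.counit LinearMap.id (Coalgebra.comul a) = (1 : k) ⊗ₜ[k] a from
      Coalgebra.rTensor_counit_comul a]
    simp
  · refine ext_S (k := k) A (B := S ⊗[k] k) _ _ fun a => ?_
    show Algebra.TensorProduct.map (AlgHom.id k S) (counitS A) (comulS A (SymmetricAlgebra.ι k A a)) =
      (Algebra.TensorProduct.rid k k S).symm (SymmetricAlgebra.ι k A a)
    rw [comulS_ι, Algebra.TensorProduct.rid_symm_apply]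
    have h1 : ∀ z : A ⊗[k] A, Algebra.TensorProduct.map (AlgHom.id k S) (counitS A)
        (TensorProduct.map (SymmetricAlgebra.ι k A) (SymmetricAlgebra.ι k A) z) =
        TensorProduct.map (SymmetricAlgebra.ι k A) LinearMap.id (TensorProduct.map LinearMap.id Coalgebra.counit z) :=
      fun z => by
      induction z using TensorProduct.induction_on with
      | zero => simp
      | add x y hx hy => simp only [map_add, hx, hy]
      | tmul x y => simp [counitS_ι]
    rw [h1]
    rw [show TensorProduct.map LinearMap.id Coalgebra.counit (Coalgebra.comul a) = a ⊗ₜ[k] (1 : k) from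
      Coalgebra.lTensor_counit_comul a]
    simp

end

/-- The unit group of a commutative monoid structure on a smooth variety. -/
theorem exists_units (M : Over (Spec (CommRingCat.of k))) [MonObj M] [IsCommMonObj M] [Smooth M.hom]
    [QuasiCompact M.hom] [GeometricallyIntegral M.hom] :
    ∃ (U : Over (Spec (CommRingCat.of k))) (_ : GrpObj U) (_ : IsCommMonObj U) (i : U ⟶ M),
      IsOpenImmersion i.left ∧ IsMonHom i ∧
      (∀ (T : Over (Spec (CommRingCat.of k))) (m : T ⟶ M), (∃ g : T ⟶ U, g ≫ i = m) ↔ IsUnit m) ∧
      Smooth U.hom ∧ QuasiCompact U.hom := by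
  obtain ⟨U, i, hi, hiU, -⟩ := Groth.Agent.S18821.result k M
  haveI := hi
  haveI hio : IsOpenImmersion i.left := Groth.Agent.S18817.result k M U i hiU
  let F : (Over (Spec (CommRingCat.of k)))ᵒᵖ ⥤ GrpCat.{u} := yonedaMonObj M ⋙ MonCat.units
  let α : (F ⋙ forget _).RepresentableBy U :=
    { homEquiv := fun {T} =>
        { toFun := fun g => ((hiU T (g ≫ i)).1 ⟨g, rfl⟩).unit
          invFun := fun (m : (T ⟶ M)ˣ) => ((hiU T (m : T ⟶ M)).2 m.isUnit).choose
          left_inv := fun g => by
            rw [← cancel_mono i]
            exact ((hiU T _).2 (((hiU T (g ≫ i)).1 ⟨g, rfl⟩).unit).isUnit).choose_spec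
          right_inv := fun (m : (T ⟶ M)ˣ) => Units.ext ((hiU T (m : T ⟶ M)).2 m.isUnit).choose_spec }
      homEquiv_comp := fun f g => Units.ext (Category.assoc f g i) }
  let val : ∀ {T : Over (Spec (CommRingCat.of k))}, (T ⟶ M)ˣ → (T ⟶ M) := fun m => m.val
  letI : GrpObj U := GrpObj.ofRepresentableBy U F α
  have hval : ∀ (T : Over (Spec (CommRingCat.of k))) (g : T ⟶ U), val (α.homEquiv g) = g ≫ i :=
    fun T g => rfl
  haveI : IsMonHom i := by
    refine ⟨?_, ?_⟩
    · show α.homEquiv.symm (1 : (𝟙_ (Over (Spec (CommRingCat.of k))) ⟶ M)ˣ) ≫ i = _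
      rw [← hval, Equiv.apply_symm_apply]
      exact Hom.one_def.trans (by rw [toUnit_unique (toUnit _) (𝟙 _), Category.id_comp])
    · show α.homEquiv.symm ((α.homEquiv (fst U U) : (U ⊗ U ⟶ M)ˣ) * α.homEquiv (snd U U)) ≫ i = _
      rw [← hval, Equiv.apply_symm_apply]
      show val (α.homEquiv (fst U U)) * val (α.homEquiv (snd U U)) = _
      rw [hval, hval, Hom.mul_def]
      congr 1
  haveI : IsCommMonObj U := ⟨by
    rw [← cancel_mono i, Category.assoc, IsMonHom.mul_hom, ← Category.assoc]
    rw [show (β_ U U).hom ≫ (i ⊗ₘ i) = (i ⊗ₘ i) ≫ (β_ M M).hom from (BraidedCategory.braiding_naturality i i).symm,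
      Category.assoc, IsCommMonObj.mul_comm]⟩
  haveI : QuasiCompact i.left := by
    haveI : IsLocallyNoetherian M.left := LocallyOfFiniteType.isLocallyNoetherian M.hom
    haveI : CompactSpace M.left := QuasiCompact.compactSpace_of_compactSpace M.hom
    haveI : IsNoetherian M.left := {}
    infer_instance
  refine ⟨U, inferInstance, inferInstance, i, hio, inferInstance, hiU, ?_, ?_⟩
  · rw [← Over.w i]; infer_instance
  · rw [← Over.w i]; infer_instance

/-- A finite commutative group is a closed subgroup of a smooth affine commutative group. -/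
theorem exists_embedding (H : Over (Spec (CommRingCat.of k))) [GrpObj H] [IsCommMonObj H] [IsFinite H.hom] :
    ∃ (U : Over (Spec (CommRingCat.of k))) (_ : GrpObj U) (_ : IsCommMonObj U) (c : H ⟶ U), IsMonHom c ∧
      IsClosedImmersion c.left ∧ Smooth U.hom ∧ QuasiCompact U.hom := by
  haveI : IsAffine H.left := isAffine_of_isAffineHom H.hom
  haveI : LocallyOfFiniteType H.hom := inferInstance
  obtain ⟨A, _, _, v, hv, hv', -, hcc⟩ := MultExt.exists_hopf H
  haveI := hv; haveI := hv'; haveI := hcc
  haveI : IsFinite (sp k A).hom := by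
    haveI : IsIso v.hom.left := (Over.forget _).map_isIso v.hom
    rw [← Over.w v.hom]; infer_instance
  haveI : Module.Finite k A := by
    have h : (CommRingCat.ofHom (algebraMap k A)).hom.Finite :=
      (IsFinite.SpecMap_iff (f := CommRingCat.ofHom (algebraMap k A))).1 ‹IsFinite (sp k A).hom›
    exact RingHom.finite_algebraMap.1 h
  letI : Bialgebra k (SymmetricAlgebra k A) := bialgS A
  haveI : Coalgebra.IsCocomm k (SymmetricAlgebra k A) := ⟨by
    show (TensorProduct.comm k (SymmetricAlgebra k A) (SymmetricAlgebra k A)).toLinearMap ∘ₗ (comulS A).toLinearMap =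
      (comulS A).toLinearMap
    have e : (Algebra.TensorProduct.comm k (SymmetricAlgebra k A) (SymmetricAlgebra k A)).toAlgHom.comp (comulS A) =
        comulS A := by
      refine ext_S (k := k) A _ _ fun a => ?_
      show Algebra.TensorProduct.comm k (SymmetricAlgebra k A) (SymmetricAlgebra k A)
        (comulS A (SymmetricAlgebra.ι k A a)) = comulS A (SymmetricAlgebra.ι k A a)
      rw [comulS_ι]
      conv_rhs => rw [← Coalgebra.comm_comul k a]
      generalize Coalgebra.comul (R := k) a = z
      induction z using TensorProduct.induction_on with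
      | zero => simp
      | add x y hx hy => simp only [map_add, hx, hy]
      | tmul x y => simp
    exact congr(($e).toLinearMap)⟩
  let M : Over (Spec (CommRingCat.of k)) := sp k (SymmetricAlgebra k A)
  haveI : IsCommMonObj M := inferInstance
  -- affine space
  let b := Module.Free.chooseBasis k A
  haveI : Finite (Module.Free.ChooseBasisIndex k A) := inferInstance
  let eA : SymmetricAlgebra k A ≃ₐ[k] MvPolynomial (Fin (Nat.card (Module.Free.ChooseBasisIndex k A))) k :=
    (SymmetricAlgebra.equivMvPolynomial b).trans (MvPolynomial.renameEquiv k (Finite.equivFin _))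
  haveI : Algebra.Smooth k (MvPolynomial (Fin (Nat.card (Module.Free.ChooseBasisIndex k A))) k) :=
    ⟨inferInstance, inferInstance⟩
  haveI : Algebra.Smooth k (SymmetricAlgebra k A) := Algebra.Smooth.of_equiv eA.symm
  haveI : Smooth M.hom :=
    (HasRingHomProperty.Spec_iff (P := @Smooth)).2 (RingHom.smooth_algebraMap.2 inferInstance)
  haveI : QuasiCompact M.hom := inferInstanceAs (QuasiCompact (Spec.map _))
  haveI : GeometricallyIntegral M.hom := by
    have hGI := AntiAffLib.geometricallyIntegral_poly (k := k) (Nat.card (Module.Free.ChooseBasisIndex k A))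
    let j : M ⟶ sp k (MvPolynomial (Fin (Nat.card (Module.Free.ChooseBasisIndex k A))) k) := pt eA.symm.toAlgHom
    haveI : IsIso j := ⟨pt eA.toAlgHom, by rw [← pt_comp, AlgEquiv.symm_comp eA]; exact pt_id, by
      rw [← pt_comp, AlgEquiv.comp_symm eA]; exact pt_id⟩
    haveI : IsIso j.left := (Over.forget _).map_isIso j
    rw [← Over.w j]
    exact (MorphismProperty.cancel_left_of_respectsIso @GeometricallyIntegral j.left _).2 hGI
  obtain ⟨U, _, _, i, hio, hi', hiU, hUs, hUq⟩ := exists_units M
  haveI := hio; haveI := hi'; haveI := hUs; haveI := hUq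
  haveI : Mono i := Over.mono_of_mono_left i
  -- the embedding
  let π : SymmetricAlgebra k A →ₐ[k] A := SymmetricAlgebra.lift LinearMap.id
  have hπ : ∀ a, π (SymmetricAlgebra.ι k A a) = a := fun a => SymmetricAlgebra.lift_ι_apply _ a
  haveI : IsMonHom (pt π) := DiagRep.isMonHom_pt π
    (ext_S (k := k) A _ _ fun a => by
      show Bialgebra.counitAlgHom k A (π (SymmetricAlgebra.ι k A a)) = counitS A (SymmetricAlgebra.ι k A a)
      rw [hπ, counitS_ι]; rfl)
    (ext_S (k := k) A _ _ fun a => by
      show Algebra.TensorProduct.map π π (comulS A (SymmetricAlgebra.ι k A a)) =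
        Bialgebra.comulAlgHom k A (π (SymmetricAlgebra.ι k A a))
      rw [hπ, comulS_ι]
      show _ = Coalgebra.comul a
      generalize Coalgebra.comul (R := k) a = z
      induction z using TensorProduct.induction_on with
      | zero => simp
      | add x y hx hy => simp only [map_add, hx, hy]
      | tmul x y => simp [hπ])
  haveI : IsClosedImmersion (pt π : sp k A ⟶ M).left :=
    IsClosedImmersion.spec_of_surjective (CommRingCat.ofHom π.toRingHom) fun a => ⟨_, hπ a⟩
  let m : H ⟶ M := v.inv ≫ pt π
  haveI : IsMonHom m := inferInstanceAs (IsMonHom (v.inv ≫ pt π))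
  have h1 := MonObj.mul_comp (𝟙 H) (𝟙 H)⁻¹ m
  rw [mul_inv_cancel, MonObj.one_comp, Category.id_comp] at h1
  have h2 := MonObj.mul_comp (𝟙 H)⁻¹ (𝟙 H) m
  rw [inv_mul_cancel, MonObj.one_comp, Category.id_comp] at h2
  have hm : IsUnit m := ⟨⟨m, (𝟙 H)⁻¹ ≫ m, h1.symm, h2.symm⟩, rfl⟩
  obtain ⟨c, hc⟩ := (hiU H m).2 hm
  haveI : IsMonHom (c ≫ i) := by rw [hc]; infer_instance
  haveI : IsMonHom c := DiagRep.isMonHom_of_comp_mono c i
  haveI : IsClosedImmersion (c.left ≫ i.left) := by
    haveI : IsIso v.inv.left := (Over.forget _).map_isIso v.inv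
    rw [← Over.comp_left, hc, Over.comp_left]; infer_instance
  exact ⟨U, inferInstance, inferInstance, c, inferInstance, IsClosedImmersion.of_comp c.left i.left, hUs, hUq⟩

end SmoothEmb

end
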